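import Cfsg.Agent.Lib.Fischer.PairThree.Local
import Cfsg.Agent.Lib.Fischer.Recognition.Pre.Count

/-!
Two non-commuting members inside the local group of a third one, in a group of type M(22): the
members commuting with all three form a copy of the 45 isotropic points, and generate the common
centralizer up to the third member.
-/

set_option autoImplicit false
set_option linter.unusedSectionVars false

namespace CfsgLib.Pre22

open CfsgLib.Fischer CfsgLib.Fischer.TypeTwentyTwo CfsgLib.Fischer.PairThree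

open CfsgLib.Fischer CfsgLib.InvChar.FischerProducts CfsgLib.InvChar.FischerHexad
open CfsgLib.InvChar.UnitaryTVTwo CfsgLib.Fischer.UnitaryHyperoval CfsgLib.Fischer.UnitarySemilinear
open CfsgLib.Fischer.FortyFive

variable {G : Type*} [Group G] {D : Set G}

variable [Finite G]
variable (hD : Cfsg.IsThreeTranspositionGroup D) (hprim : Cfsg.IsPrimitiveUnderConj D)
  (ht : PreM22 G D)

include hD hprim ht

/-- Non-commuting pairs in a local group with the same first member are conjugate in it. -/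
theorem exists_move_second {f a d d' : G} (hf : f ∈ D) (ha : a ∈ perp D f) (hd : d ∈ perp D f)
    (hd' : d' ∈ perp D f) (had : ¬ Commute a d) (had' : ¬ Commute a d') :
    ∃ k, Commute k f ∧ Commute k a ∧ k * d * k⁻¹ = d' := by
  have step : ∀ x y : G, x ∈ perp D f → y ∈ perp D f → ¬ Commute a x → ¬ Commute a y → Commute x y →
      ∃ k, Commute k f ∧ Commute k a ∧ k * x * k⁻¹ = y := by
    intro x y hx hy hax hay hxy
    obtain ⟨k, hk, h1, h2⟩ := exists_swap_ends hD.1 hx.1 ha.1 hy.1 hax hay hxy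
    refine ⟨k, ?_, h1, h2⟩
    have hle : Subgroup.closure ({x, a, y} : Set G) ≤ Subgroup.centralizer ({f} : Set G) := by
      rw [Subgroup.closure_le]
      rintro z (rfl | rfl | rfl)
      · exact Subgroup.mem_centralizer_singleton_iff.2 hx.2.2.symm.eq
      · exact Subgroup.mem_centralizer_singleton_iff.2 ha.2.2.symm.eq
      · exact Subgroup.mem_centralizer_singleton_iff.2 hy.2.2.symm.eq
    exact Subgroup.mem_centralizer_singleton_iff.1 (hle hk)
  by_cases hc : Commute d d'
  · exact step d d' hd hd' had had' hc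
  by_cases hex : ∃ z ∈ perp D f, Commute d z ∧ Commute d' z ∧ ¬ Commute a z
  · obtain ⟨z, hz, h1, h2, h3⟩ := hex
    obtain ⟨k, k1, k2, k3⟩ := step d z hd hz had h3 h1
    obtain ⟨l, l1, l2, l3⟩ := step z d' hz hd' h3 had' h2.symm
    exact ⟨l * k, l1.mul_left k1, l2.mul_left k2, by rw [← l3, ← k3]; group⟩
  push Not at hex
  have hG := good_of_primitive hD hprim ht.1
  obtain ⟨F, _, _, hF, ⟨e⟩⟩ := exists_equiv_of_type22 hD hprim ht hf
  let H : Subgroup G := Subgroup.closure (perp D f)
  obtain ⟨hT, hconj⟩ := image_tt hG hf (H := H) rfl e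
  let a₁ : H := ⟨a, Subgroup.subset_closure ha⟩
  let d₁ : H := ⟨d, Subgroup.subset_closure hd⟩
  let d₂ : H := ⟨d', Subgroup.subset_closure hd'⟩
  obtain ⟨u, hu, hu0, hae⟩ := exists_pv_of_mem hF (by norm_num) hT hconj ⟨a₁, ha, rfl⟩
  obtain ⟨v, hv, hv0, hde⟩ := exists_pv_of_mem hF (by norm_num) hT hconj ⟨d₁, hd, rfl⟩
  obtain ⟨r, hr, hr0, hde'⟩ := exists_pv_of_mem hF (by norm_num) hT hconj ⟨d₂, hd', rfl⟩
  have hcm : ∀ {x y : H} {s t : Fin 6 → F} (hs : Cfsg.hermForm 6 F 2 s s = 0)
      (ht' : Cfsg.hermForm 6 F 2 t t = 0), x ∈ memberSet D f H → y ∈ memberSet D f H →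
      quotMap e x = pv hF s hs → quotMap e y = pv hF t ht' → Cfsg.hermForm 6 F 2 s t = 0 →
      Commute (x : G) y := by
    intro x y s t hs ht' hx hy ex ey k
    refine commute_of_quotMap hG hf (H := H) rfl e hx hy ?_
    rw [ex, ey]
    exact (tv_commute hF hs ht' k).map (QuotientGroup.mk' _)
  have hvr : Cfsg.hermForm 6 F 2 v r ≠ 0 := fun k => hc (hcm hv hr (x := d₁) (y := d₂) hd hd' hde hde' k)
  have huv : Cfsg.hermForm 6 F 2 u v ≠ 0 := fun k => had (hcm hu hv (x := a₁) (y := d₁) ha hd hae hde k)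
  rcases pv_eq_or_conj hF (by norm_num) hv hr hu hvr huv (fun k hk hkv hkr => by
      by_cases hk0 : k = 0
      · subst hk0; exact (conj hF).zero_left _
      obtain ⟨z, hz, hze⟩ := pv_mem hF (by norm_num) hT hconj ⟨_, a₁, ha, rfl⟩ hk hk0
      have h := hex z hz (hcm hk hv (y := d₁) hz hd hze hde hkv).symm
        (hcm hk hr (y := d₂) hz hd' hze hde' hkr).symm
      refine herm_eq_zero_of_commute hF (by norm_num) hk hu ?_
      rw [← hze, ← hae]
      exact (show Commute z a₁ from Subtype.ext h.symm.eq).map _) with k | k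
  · have : a₁ = d₂ := quotMap_inj hG hf (H := H) rfl e ha hd' (hae.trans (k.trans hde'.symm))
    exact absurd (show a = d' from congrArg Subtype.val this) fun h => had' (h ▸ Commute.refl a)
  · have h' : a₁ = d₁ * d₂ * d₁⁻¹ := quotMap_inj hG hf (H := H) rfl e ha
      ((memberSet_tt hG.tt rfl).2.1 d₁ _ hd') (hae.trans (k.trans (by rw [map_mul, map_mul, map_inv, hde, hde'])))
    have hv' : a = d * d' * d⁻¹ := congrArg Subtype.val h'
    refine ⟨a, ha.2.2.symm, Commute.refl a, ?_⟩
    calc a * d * a⁻¹ = a * d * a := by rw [inv_eq hD.1 ha.1]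
      _ = d * a * d := braid hD.1 ha.1 hd.1 had
      _ = d' := by rw [hv', inv_eq hD.1 hd.1, show d * (d * d' * d) * d = (d * d) * d' * (d * d) by group,
          sq_eq_one hD.1 hd.1, one_mul, mul_one]

/-- The local quotient can be chosen with two given non-commuting members at the standard points. -/
theorem exists_frame {f a d : G} (hf : f ∈ D) (ha : a ∈ perp D f) (hd : d ∈ perp D f) (had : ¬ Commute a d) :
    ∃ (F : Type) (_ : Field F) (_ : Fintype F) (hF : Fintype.card F = 4) (θ : F) (hθ : IsCode θ)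
      (e : (Subgroup.closure (perp D f) ⧸ Subgroup.center (Subgroup.closure (perp D f))) ≃* Cfsg.PSU 6 F 2),
      quotMap e ⟨a, Subgroup.subset_closure ha⟩ = pv hF u₀ (herm_u₀_u₀ hF hθ) ∧
      quotMap e ⟨d, Subgroup.subset_closure hd⟩ = pv hF (u₁ θ) (herm_u₁_u₁ hF hθ) := by
  have hG := good_of_primitive hD hprim ht.1
  obtain ⟨F, _, _, hF, ⟨e⟩⟩ := exists_equiv_of_type22 hD hprim ht hf
  obtain ⟨θ, hθ1, hθ2⟩ := exists_code hF
  have hθ : IsCode θ := ⟨hθ1, hθ2⟩
  let H : Subgroup G := Subgroup.closure (perp D f)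
  obtain ⟨hT, hconj⟩ := image_tt hG hf (H := H) rfl e
  have hne := (memberSet_nonempty hD hprim ht hf).image (quotMap e)
  obtain ⟨a₀, ha₀, hae⟩ := pv_mem hF (by norm_num) hT hconj hne (herm_u₀_u₀ hF hθ) (u₀_ne hF hθ)
  obtain ⟨d₀, hd₀, hde⟩ := pv_mem hF (by norm_num) hT hconj hne (herm_u₁_u₁ hF hθ) (u₁_ne hF hθ)
  have had₀ : ¬ Commute (a₀ : G) d₀ := fun k => herm_u₀_u₁ hF hθ (herm_eq_zero_of_commute hF (by norm_num)
    (herm_u₀_u₀ hF hθ) (herm_u₁_u₁ hF hθ) (by
      rw [← hae, ← hde]; exact (show Commute a₀ d₀ from Subtype.ext k.eq).map _))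
  obtain ⟨g, hg, hga⟩ := (local_of_type22 hD hprim ht).trans f hf (a₀ : G) ha₀ a ha
  have hgf : Commute g f := (commute_d (H := H) rfl hg).symm
  have hd₁ : g * d₀ * g⁻¹ ∈ perp D f := (TypeTwentyTwo.conj_mem_perp_iff hD hgf).2 hd₀
  obtain ⟨k, hkf, hka, hkd⟩ := exists_move_second hD hprim ht hf ha hd₁ hd
    (fun k => had₀ ((conj_commute_iff g _ _).1 (by rwa [hga]))) had
  let m : H := ⟨k * g, mul_mem (centralizer_mem hD hprim ht hf hkf) hg⟩
  have hma : (⟨a, Subgroup.subset_closure ha⟩ : H) = m * a₀ * m⁻¹ := Subtype.ext (by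
    show a = k * g * a₀ * (k * g)⁻¹
    rw [show k * g * (a₀ : G) * (k * g)⁻¹ = k * (g * a₀ * g⁻¹) * k⁻¹ by group, hga, hka.eq,
      mul_inv_cancel_right])
  have hmd : (⟨d, Subgroup.subset_closure hd⟩ : H) = m * d₀ * m⁻¹ := Subtype.ext (by
    show d = k * g * d₀ * (k * g)⁻¹
    rw [← hkd]; group)
  refine ⟨F, inferInstance, inferInstance, hF, θ, hθ, e.trans (MulAut.conj (quotMap e m)⁻¹), ?_, ?_⟩
  · show (quotMap e m)⁻¹ * quotMap e _ * ((quotMap e m)⁻¹)⁻¹ = _
    rw [hma, map_mul, map_mul, map_inv, hae]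
    group
  · show (quotMap e m)⁻¹ * quotMap e _ * ((quotMap e m)⁻¹)⁻¹ = _
    rw [hmd, map_mul, map_mul, map_inv, hde]
    group

/-- The members commuting with `f`, `a` and `d` are the 45 points; they generate the centralizer of
the three up to `f`, and their centralizer there is generated by `f`. -/
theorem exists_points {f a d : G} (hf : f ∈ D) (ha : a ∈ perp D f) (hd : d ∈ perp D f) (had : ¬ Commute a d) :
    ∃ g : Fin 45 → G, Function.Injective g ∧ Set.range g = common D a d ∩ perp D f ∧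
      (∀ i j, Commute (g i) (g j) ↔ hT (pt i) (pt j) = 0) ∧
      (∀ k, Commute k f → Commute k a → Commute k d →
        k ∈ Subgroup.closure (insert f (Set.range g))) ∧
      (∀ k, Commute k f → Commute k a → Commute k d → (∀ i, Commute k (g i)) → k = 1 ∨ k = f) := by
  obtain ⟨F, _, _, hF, θ, hθ, e, hae, hde⟩ := exists_frame hD hprim ht hf ha hd had
  have hG := good_of_primitive hD hprim ht.1
  let H : Subgroup G := Subgroup.closure (perp D f)
  obtain ⟨hT', hconj⟩ := image_tt hG hf (H := H) rfl e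
  have hne := (memberSet_nonempty hD hprim ht hf).image (quotMap e)
  choose g hg hge using fun i => pv_mem hF (by norm_num) hT' hconj hne (herm_pw_self hF hθ i) (pw_ne hF hθ i)
  have hcm : ∀ {x y : H} {s t : Fin 6 → F} (hs : Cfsg.hermForm 6 F 2 s s = 0)
      (ht' : Cfsg.hermForm 6 F 2 t t = 0), x ∈ memberSet D f H → y ∈ memberSet D f H →
      quotMap e x = pv hF s hs → quotMap e y = pv hF t ht' →
      (Commute (x : G) y ↔ Cfsg.hermForm 6 F 2 s t = 0) := by
    intro x y s t hs ht' hx hy ex ey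
    constructor
    · intro k
      refine herm_eq_zero_of_commute hF (by norm_num) hs ht' ?_
      rw [← ex, ← ey]
      exact (show Commute x y from Subtype.ext k.eq).map _
    · intro k
      refine commute_of_quotMap hG hf (H := H) rfl e hx hy ?_
      rw [ex, ey]
      exact (tv_commute hF hs ht' k).map (QuotientGroup.mk' _)
  have hga : ∀ i, Commute a (g i : G) := fun i =>
    ((hcm (herm_pw_self hF hθ i) (herm_u₀_u₀ hF hθ) (hg i) ha (hge i) hae).2 (herm_pad_u hF hθ _).1).symm
  have hgd : ∀ i, Commute d (g i : G) := fun i =>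
    ((hcm (herm_pw_self hF hθ i) (herm_u₁_u₁ hF hθ) (hg i) hd (hge i) hde).2 (herm_pad_u hF hθ _).2).symm
  have hrange : Set.range (fun i => (g i : G)) = common D a d ∩ perp D f := by
    ext x
    constructor
    · rintro ⟨i, rfl⟩
      exact ⟨⟨(hg i).1, fun k => had (k ▸ (hgd i).symm), hga i, hgd i⟩, hg i⟩
    · rintro ⟨⟨-, -, hxa, hxd⟩, hxp⟩
      let x₁ : H := ⟨x, Subgroup.subset_closure hxp⟩
      obtain ⟨r, hr, hr0, hxe⟩ := exists_pv_of_mem hF (by norm_num) hT' hconj ⟨x₁, hxp, rfl⟩
      obtain ⟨w, hw⟩ := exists_pad hF hθ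
        ((hcm hr (herm_u₀_u₀ hF hθ) (x := x₁) hxp ha hxe hae).1 hxa.symm)
        ((hcm hr (herm_u₁_u₁ hF hθ) (x := x₁) hxp hd hxe hde).1 hxd.symm)
      subst hw
      obtain ⟨i, hi⟩ := exists_pw hF hθ hr (fun k => hr0 (by
        rw [k, pad]
        funext m
        simp [join]))
      exact ⟨i, congrArg Subtype.val (quotMap_inj hG hf (H := H) rfl e (hg i) (y := x₁) hxp
        ((hge i).trans (hi.symm.trans hxe.symm)))⟩
  refine ⟨fun i => (g i : G), fun i j k => pw_inj hF hθ (by
    rw [← hge i, ← hge j, show g i = g j from Subtype.ext k]), hrange,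
    fun i j => (hcm _ _ (hg i) (hg j) (hge i) (hge j)).trans (herm_pw_eq_zero hF hθ), ?_, ?_⟩
  · intro k hkf hka hkd
    let k₁ : H := ⟨k, centralizer_mem hD hprim ht hf hkf⟩
    have h := mem_closure_padSet hF hθ (g := quotMap e k₁)
      (by rw [← hae]; exact (show Commute k₁ ⟨a, _⟩ from Subtype.ext hka.eq).map _)
      (by rw [← hde]; exact (show Commute k₁ ⟨d, _⟩ from Subtype.ext hkd.eq).map _)
    have hle : Subgroup.closure (padSet hF) ≤ (Subgroup.closure (Set.range g)).map (quotMap e) := by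
      rw [Subgroup.closure_le]
      rintro _ ⟨w, hw, hw0, rfl⟩
      obtain ⟨i, hi⟩ := exists_pw hF hθ hw hw0
      exact ⟨g i, Subgroup.subset_closure ⟨i, rfl⟩, (hge i).trans hi.symm⟩
    obtain ⟨v, hv, hve⟩ := hle h
    have hz : v⁻¹ * k₁ ∈ Subgroup.center H := by
      rw [← quotMap_eq_one e, map_mul, map_inv, hve, inv_mul_cancel]
    rw [center_eq hD hprim ht hf, Subgroup.mem_subgroupOf] at hz
    have hv' : (v : G) ∈ Subgroup.closure (insert f (Set.range fun i => (g i : G))) := by
      have : (Subgroup.closure (Set.range g)).map H.subtype ≤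
          Subgroup.closure (insert f (Set.range fun i => (g i : G))) := by
        rw [MonoidHom.map_closure, ← Set.range_comp]
        exact Subgroup.closure_mono (Set.subset_insert _ _)
      exact this ⟨v, hv, rfl⟩
    have hz' : (v : G)⁻¹ * k ∈ Subgroup.closure (insert f (Set.range fun i => (g i : G))) :=
      Subgroup.zpowers_le.2 (Subgroup.subset_closure (Set.mem_insert f _)) hz
    have := mul_mem hv' hz'
    rwa [mul_inv_cancel_left] at this
  · intro k hkf hka hkd hkg
    let k₁ : H := ⟨k, centralizer_mem hD hprim ht hf hkf⟩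
    have h := eq_one_of_commute hF hθ (g := quotMap e k₁)
      (by rw [← hae]; exact (show Commute k₁ ⟨a, _⟩ from Subtype.ext hka.eq).map _)
      (by rw [← hde]; exact (show Commute k₁ ⟨d, _⟩ from Subtype.ext hkd.eq).map _)
      (by
        rintro _ ⟨w, hw, hw0, rfl⟩
        obtain ⟨i, hi⟩ := exists_pw hF hθ hw hw0
        rw [hi, ← hge i]
        exact (show Commute k₁ (g i) from Subtype.ext (hkg i).eq).map _)
    rw [quotMap_eq_one] at h
    exact center_le hD hprim ht hf k₁.2 fun x hx =>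
      (congrArg Subtype.val (Subgroup.mem_center_iff.1 h ⟨x, Subgroup.subset_closure hx⟩)).symm

end CfsgLib.Pre22
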