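import Cfsg.Agent.Lib.Fischer.PairThree.Common
import Cfsg.Agent.Lib.Fischer.Recognition.Pre.PairLocal

/-!
The members commuting with two non-commuting members of a group of type M(22): they generate the
centralizer of the two, form one class there, and determine the line of the two.
-/

set_option autoImplicit false
set_option linter.unusedSectionVars false

namespace CfsgLib.Pre22

open CfsgLib.Fischer CfsgLib.Fischer.TypeTwentyTwo CfsgLib.Fischer.PairThree

open CfsgLib.Fischer CfsgLib.InvChar.FischerProducts CfsgLib.InvChar.FischerHexad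
open CfsgLib.InvChar.UnitaryTVTwo CfsgLib.Fischer.UnitaryHyperoval
open CfsgLib.Fischer.FortyFive

variable {G : Type*} [Group G] {D : Set G} {a d f : G}

variable [Finite G]
variable (hD : Cfsg.IsThreeTranspositionGroup D) (hprim : Cfsg.IsPrimitiveUnderConj D)
  (ht : PreM22 G D) (ha : a ∈ D) (hd : d ∈ D) (had : ¬ Commute a d)

include hD hprim ht ha hd had

theorem nonempty : (common D a d).Nonempty :=
  common_nonempty hD ha (connected hD hprim ht) hd had

/-- The 45 members commuting with a third one. -/
theorem exists_points_at (hf : f ∈ common D a d) :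
    ∃ g : Fin 45 → G, Function.Injective g ∧ Set.range g = common D a d ∩ perp D f ∧
      (∀ i j, Commute (g i) (g j) ↔ hT (pt i) (pt j) = 0) ∧
      (∀ k, Commute k f → Commute k a → Commute k d →
        k ∈ Subgroup.closure (insert f (Set.range g))) ∧
      (∀ k, Commute k f → Commute k a → Commute k d → (∀ i, Commute k (g i)) → k = 1 ∨ k = f) :=
  exists_points hD hprim ht hf.1 (left_mem_perp ha had hf) (right_mem_perp hd had hf) had

/-- The common neighbours are one class of the group they generate. -/
theorem exists_conj {h : G} (hf : f ∈ common D a d) (hh : h ∈ common D a d) :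
    ∃ k ∈ Subgroup.closure (common D a d), k * f * k⁻¹ = h := by
  have trans' : ∀ x y z : G, (∃ k ∈ Subgroup.closure (common D a d), k * x * k⁻¹ = y) →
      (∃ k ∈ Subgroup.closure (common D a d), k * y * k⁻¹ = z) →
      ∃ k ∈ Subgroup.closure (common D a d), k * x * k⁻¹ = z := by
    rintro x y z ⟨k, hk, rfl⟩ ⟨l, hl, rfl⟩
    exact ⟨l * k, mul_mem hl hk, by group⟩
  have local' : ∀ c x y : G, c ∈ common D a d → x ∈ common D a d ∩ perp D c → y ∈ common D a d ∩ perp D c →
      ∃ k ∈ Subgroup.closure (common D a d), k * x * k⁻¹ = y := by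
    intro c x y hc hx hy
    obtain ⟨g, -, hr, hcomm, -, -⟩ := exists_points_at hD hprim ht ha hd had hc
    rw [← hr] at hx hy
    obtain ⟨i, rfl⟩ := hx
    obtain ⟨j, rfl⟩ := hy
    have hmem : ∀ i, g i ∈ common D a d := fun i =>
      (hr ▸ Set.mem_range_self i : g i ∈ common D a d ∩ perp D c).1
    obtain ⟨m, h1, h2⟩ := exists_common_nonperp i j
    exact trans' _ (g m) _ (exists_conj_of_not_commute hD (hmem i) (hmem m) fun k => h1 ((hcomm i m).1 k))
      (exists_conj_of_not_commute hD (hmem m) (hmem j) fun k => h2 ((hcomm m j).1 k))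
  by_cases hc : Commute f h
  swap
  · exact exists_conj_of_not_commute hD hf hh hc
  by_cases hne : f = h
  · exact ⟨1, one_mem _, by rw [hne]; group⟩
  obtain ⟨g, hinj, hr, hcomm, -, -⟩ := exists_points_at hD hprim ht ha hd had hf
  have hh' : h ∈ Set.range g := by rw [hr]; exact ⟨hh, hh.1, Ne.symm hne, hc⟩
  obtain ⟨i, rfl⟩ := hh'
  obtain ⟨j, hji, hij⟩ := exists_perp_ne i
  have hgj : g j ∈ common D a d ∩ perp D f := hr ▸ Set.mem_range_self j
  exact trans' _ (g j) _
    (local' (g i) f (g j) hh ⟨hf, hf.1, hne, hc.symm⟩ ⟨hgj.1, hgj.1.1, fun k => hji (hinj k), (hcomm i j).2 hij⟩)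
    (local' f (g j) (g i) hf hgj ⟨hh, hh.1, Ne.symm hne, hc⟩)

end CfsgLib.Pre22
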