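import Cfsg.Agent.Lib.Fischer.M22Sylow.FiveMembers
import Cfsg.Agent.Lib.Fischer.Recognition.Pre.PairGraph

/-!
Members centralizing a subgroup of order 5 in a group of type M(22): ten, spanning a Petersen graph.
-/

set_option autoImplicit false
set_option linter.unusedSectionVars false

namespace CfsgLib.Pre22

open CfsgLib.Fischer CfsgLib.Fischer.TypeTwentyTwo CfsgLib.Fischer.M22Sylow

open CfsgLib.Fischer CfsgLib.Fischer.TypeTwentyTwo

variable {G : Type*} [Group G] [Finite G] {D : Set G}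
variable (hD : Cfsg.IsThreeTranspositionGroup D) (hprim : Cfsg.IsPrimitiveUnderConj D)
  (ht : PreM22 G D)

include hD hprim ht

theorem mu22 {a b : G} (ha : a ∈ D) (hb : b ∈ D) (hab : ¬ Commute a b) : (common D a b).ncard = 126 := by
  classical
  let _ : Fintype G := Fintype.ofFinite G
  let α := {x : G // x ∈ D}
  let R : α → α → Prop := fun x y => (x : G) ≠ y ∧ Commute (x : G) y
  haveI : Nonempty α := ⟨⟨a, ha⟩⟩
  have hcard : ∀ (p : α → Prop) [DecidablePred p] (S : Set G), (∀ y ∈ S, y ∈ D) →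
      (∀ z : α, p z ↔ (z : G) ∈ S) → (Finset.univ.filter p).card = S.ncard := by
    intro p _ S hS hp
    rw [← Set.ncard_coe_finset, ← Set.ncard_image_of_injective _ Subtype.val_injective]
    congr 1
    ext y
    constructor
    · rintro ⟨z, hz, rfl⟩
      exact (hp z).1 (Finset.mem_filter.1 hz).2
    · intro hy
      exact ⟨⟨y, hS y hy⟩, Finset.mem_filter.2 ⟨Finset.mem_univ _, (hp _).2 hy⟩, rfl⟩
  have hdeg : ∀ x : α, (Finset.univ.filter fun z => R x z).card = 693 := by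
    intro x
    rw [← ncard_perp hD hprim ht x.2]
    exact hcard _ _ (fun y hy => hy.1) fun z => ⟨fun k => ⟨z.2, Ne.symm k.1, k.2⟩, fun k => ⟨Ne.symm k.2.1, k.2.2⟩⟩
  obtain ⟨μ, hμdef⟩ : ∃ μ, μ = (common D a b).ncard := ⟨_, rfl⟩
  have hsrg : SRGTrace.IsSRG R 693 180 μ := by
    refine ⟨fun x y k => ⟨Ne.symm k.1, k.2.symm⟩, fun x k => k.1 rfl, hdeg, fun x y k => ?_, fun x y hne k => ?_⟩
    · rw [← ncard_common_commute hD hprim ht x.2 (w := (y : G)) ⟨y.2, Ne.symm k.1, k.2⟩]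
      exact hcard _ _ (fun y hy => hy.1.1) fun z => ⟨fun q => ⟨⟨z.2, Ne.symm q.1.1, q.1.2⟩, z.2, Ne.symm q.2.1, q.2.2⟩,
        fun q => ⟨⟨Ne.symm q.1.2.1, q.1.2.2⟩, Ne.symm q.2.2.1, q.2.2.2⟩⟩
    · have hnc : ¬ Commute (x : G) y := fun c => k ⟨fun q => hne (Subtype.ext q), c⟩
      rw [hμdef, ncard_common_const hD hprim ht ha hb hab x.2 y.2 hnc]
      exact hcard _ _ (fun y hy => hy.1) fun z => ⟨fun q => ⟨z.2, Ne.symm q.1.1, q.1.2, q.2.2⟩,
        fun q => ⟨⟨Ne.symm q.2.1, q.2.2.1⟩, fun c => hnc (c ▸ q.2.2.1), q.2.2.2⟩⟩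
  have hcount := SRGTrace.count_eq hsrg
  have hv : Fintype.card α = 3510 := by
    rw [← ncard_eq hD hprim ht, ← Nat.card_coe_set_eq, Nat.card_eq_fintype_card]
  rw [hv] at hcount
  push_cast at hcount
  have : ((μ : ℕ) : ℚ) = 126 := by linarith
  rw [← hμdef]
  exact_mod_cast this

end CfsgLib.Pre22
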