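import Cfsg.Agent.Lib.Fischer.M22Unique.Relators
import Cfsg.Agent.Lib.Fischer.Recognition.Pre.Exists

/-!
Nine members in the shape of Y332 of a class of type M(22) satisfy the three further relators of Fi22.
-/

set_option autoImplicit false
set_option linter.unusedSectionVars false
set_option linter.style.haveILetI false

namespace CfsgLib.Pre22

open CfsgLib.Fischer CfsgLib.Fischer.TypeTwentyTwo CfsgLib.Fischer.M22Unique

open CfsgLib.Fischer CfsgLib.InvChar.FischerProducts CfsgLib.InvChar.FischerHexad CfsgLib.Fischer.PairThree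

variable {G : Type*} [Group G] [Finite G] {D : Set G} {σ : Nat → G}
variable (hD : Cfsg.IsThreeTranspositionGroup D) (hprim : Cfsg.IsPrimitiveUnderConj D)
  (ht : PreM22 G D) (hσ : Config D σ)

include hσ

include hD hprim ht

/-- The chain g, f, e, d, h, i inside the local group at `a`. -/
theorem Config.radical_short :
    ∃ r ∈ perp D (σ 0), (Commute r (σ 6) ∧ Commute r (σ 5) ∧ Commute r (σ 4) ∧ Commute r (σ 3) ∧ Commute r (σ 7)) ∧
      ¬ Commute r (σ 8) ∧ ∀ g, Commute g (σ 0) → Commute g (σ 6) → Commute g (σ 5) → Commute g (σ 4) →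
        Commute g (σ 3) → Commute g (σ 7) → g = 1 ∨ g = σ 0 ∨ g = r ∨ g = σ 0 * r := by
  obtain ⟨r, hr, h1, h2, h3⟩ := exists_radical_member hD hprim ht (hσ.mem 0 (by norm_num))
    (x := ![σ 6, σ 5, σ 4, σ 3, σ 7, σ 8])
    (fun i => by fin_cases i <;> [exact hσ.mem_perp 0 6; exact hσ.mem_perp 0 5; exact hσ.mem_perp 0 4;
      exact hσ.mem_perp 0 3; exact hσ.mem_perp 0 7; exact hσ.mem_perp 0 8])
    (fun i j => by
      fin_cases i <;> fin_cases j <;>
        simp [Commute.refl, hσ.com 6 4, hσ.com 6 3, hσ.com 6 7, hσ.com 6 8, hσ.com 5 3, hσ.com 5 7, hσ.com 5 8,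
          hσ.com 4 7, hσ.com 4 8, hσ.com 3 8, hσ.com 4 6, hσ.com 3 6, hσ.com 7 6, hσ.com 8 6, hσ.com 3 5, hσ.com 7 5,
          hσ.com 8 5, hσ.com 7 4, hσ.com 8 4, hσ.com 8 3, hσ.ncom 6 5, hσ.ncom 5 6, hσ.ncom 5 4, hσ.ncom 4 5,
          hσ.ncom 4 3, hσ.ncom 3 4, hσ.ncom 3 7, hσ.ncom 7 3, hσ.ncom 7 8, hσ.ncom 8 7])
  refine ⟨r, hr, ⟨h1 0 (by decide), h1 1 (by decide), h1 2 (by decide), h1 3 (by decide), h1 4 (by decide)⟩, h2,
    fun g g0 g1 g2 g3 g4 g5 => h3 g g0 fun i hi => ?_⟩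
  fin_cases i
  exacts [g1, g2, g3, g4, g5, absurd rfl hi]

/-- The chain i, h, d, e, f, g inside the local group at `a`. -/
theorem Config.radical_long :
    ∃ r ∈ perp D (σ 0), (Commute r (σ 8) ∧ Commute r (σ 7) ∧ Commute r (σ 3) ∧ Commute r (σ 4) ∧ Commute r (σ 5)) ∧
      ¬ Commute r (σ 6) ∧ ∀ g, Commute g (σ 0) → Commute g (σ 8) → Commute g (σ 7) → Commute g (σ 3) →
        Commute g (σ 4) → Commute g (σ 5) → g = 1 ∨ g = σ 0 ∨ g = r ∨ g = σ 0 * r := by
  obtain ⟨r, hr, h1, h2, h3⟩ := exists_radical_member hD hprim ht (hσ.mem 0 (by norm_num))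
    (x := ![σ 8, σ 7, σ 3, σ 4, σ 5, σ 6])
    (fun i => by fin_cases i <;> [exact hσ.mem_perp 0 8; exact hσ.mem_perp 0 7; exact hσ.mem_perp 0 3;
      exact hσ.mem_perp 0 4; exact hσ.mem_perp 0 5; exact hσ.mem_perp 0 6])
    (fun i j => by
      fin_cases i <;> fin_cases j <;>
        simp [Commute.refl, hσ.com 6 4, hσ.com 6 3, hσ.com 6 7, hσ.com 6 8, hσ.com 5 3, hσ.com 5 7, hσ.com 5 8,
          hσ.com 4 7, hσ.com 4 8, hσ.com 3 8, hσ.com 4 6, hσ.com 3 6, hσ.com 7 6, hσ.com 8 6, hσ.com 3 5, hσ.com 7 5,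
          hσ.com 8 5, hσ.com 7 4, hσ.com 8 4, hσ.com 8 3, hσ.ncom 6 5, hσ.ncom 5 6, hσ.ncom 5 4, hσ.ncom 4 5,
          hσ.ncom 4 3, hσ.ncom 3 4, hσ.ncom 3 7, hσ.ncom 7 3, hσ.ncom 7 8, hσ.ncom 8 7])
  refine ⟨r, hr, ⟨h1 0 (by decide), h1 1 (by decide), h1 2 (by decide), h1 3 (by decide), h1 4 (by decide)⟩, h2,
    fun g g0 g1 g2 g3 g4 g5 => h3 g g0 fun i hi => ?_⟩
  fin_cases i
  exacts [g1, g2, g3, g4, g5, absurd rfl hi]

/-- The short radical does not commute with `b`. -/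
theorem Config.radical_short_not_commute {r : G} (hr : r ∈ perp D (σ 0))
    (h : Commute r (σ 6) ∧ Commute r (σ 5) ∧ Commute r (σ 4) ∧ Commute r (σ 3) ∧ Commute r (σ 7))
    (h8 : ¬ Commute r (σ 8)) : ¬ Commute (σ 1) r := by
  intro k
  obtain ⟨h6, h5, -, h3, h7⟩ := h
  refine no_chain_four hD hprim ht (hσ.mem 0 (by norm_num)) (hσ.mem 1 (by norm_num)) (hσ.ncom 0 1)
    (hσ.mem_common 5) (hσ.mem_common 6) (hσ.ncom 5 6) (x := ![r, σ 8, σ 7, σ 3]) ?_ ?_
  · intro m
    fin_cases m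
    exacts [⟨⟨hr.1, hr.2.1, hr.2.2, k⟩, h5, h6⟩, ⟨hσ.mem_common 8, hσ.com 8 5, hσ.com 8 6⟩,
      ⟨hσ.mem_common 7, hσ.com 7 5, hσ.com 7 6⟩, ⟨hσ.mem_common 3, hσ.com 3 5, hσ.com 3 6⟩]
  · intro m n
    fin_cases m <;> fin_cases n <;>
      simp [Commute.refl, h7, h7.symm, h3, h3.symm, h8, commute_iff_of_false h8, hσ.com 8 3, hσ.com 3 8, hσ.ncom 8 7,
        hσ.ncom 7 8, hσ.ncom 7 3, hσ.ncom 3 7]

/-- The relator of the E7 subdiagram without g and i. -/
theorem Config.relA : ev σ coxA ^ 9 = 1 := by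
  obtain ⟨w, hw⟩ : ∃ w, w = ev σ (ninth coxA) := ⟨_, rfl⟩
  have hpow : w = ev σ coxA ^ 9 := hw.trans (ev_flatten_replicate σ coxA 9)
  rw [← hpow]
  have c0 : Commute w (σ 0) := hw ▸ hσ.commute_of_cert hD (hσ.ev_of_cert hD cox_a_a)
  have c1 : Commute w (σ 1) := hw ▸ hσ.commute_of_cert hD (hσ.ev_of_cert hD cox_a_b)
  have c2 : Commute w (σ 2) := hw ▸ hσ.commute_of_cert hD (hσ.ev_of_cert hD cox_a_c)
  have c3 : Commute w (σ 3) := hw ▸ hσ.commute_of_cert hD (hσ.ev_of_cert hD cox_a_d)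
  have c4 : Commute w (σ 4) := hw ▸ hσ.commute_of_cert hD (hσ.ev_of_cert hD cox_a_e)
  have c5 : Commute w (σ 5) := hw ▸ hσ.commute_of_cert hD (hσ.ev_of_cert hD cox_a_f)
  have c7 : Commute w (σ 7) := hw ▸ hσ.commute_of_cert hD (hσ.ev_of_cert hD cox_a_h)
  obtain ⟨r, hr, hr5, hr8, hclass⟩ := (Config.radical_short (hσ := hσ)) hD hprim ht
  have hbr := (Config.radical_short_not_commute (hσ := hσ)) hD hprim ht hr hr5 hr8
  have c6 : Commute w (σ 6) := hσ.line w c0 c4 c3 c2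
  rcases hclass w c0 c6 c5 c4 c3 c7 with e | e | e | e
  · exact e
  · exact absurd (e ▸ c1) (hσ.ncom 0 1)
  · exact absurd (e ▸ c1).symm hbr
  · exfalso
    have ha := hσ.mem 0 (show 0 < 9 by norm_num)
    have hb := hσ.mem 1 (show 1 < 9 by norm_num)
    rw [e] at c1
    have hkey : r * σ 1 * r = σ 0 * σ 1 * σ 0 := by
      calc r * σ 1 * r = σ 0 * σ 0 * r * σ 1 * r := by rw [sq_eq_one hD.1 ha, one_mul]
        _ = σ 0 * (σ 1 * (σ 0 * r)) * r := by rw [← c1.eq]; group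
        _ = σ 0 * σ 1 * σ 0 * (r * r) := by group
        _ = σ 0 * σ 1 * σ 0 := by rw [sq_eq_one hD.1 hr.1, mul_one]
    rw [← braid hD.1 hb hr.1 hbr, braid hD.1 ha hb (hσ.ncom 0 1)] at hkey
    exact hr.2.1 (mul_left_cancel (mul_right_cancel hkey))

/-- Conjugating by `a b a` interchanges `a` and `b` and fixes what commutes with both. -/
theorem Config.swap : ∃ x : G, x * x = 1 ∧ x * σ 0 * x = σ 1 ∧ x * σ 1 * x = σ 0 ∧
    (∀ y, Commute (σ 0) y → Commute (σ 1) y → x * y * x = y) ∧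
    ∀ r, Commute (σ 0) r → x * r * x = σ 0 * (σ 1 * r * σ 1) * σ 0 := by
  have ha := sq_eq_one hD.1 (hσ.mem 0 (show 0 < 9 by norm_num))
  have hb := sq_eq_one hD.1 (hσ.mem 1 (show 1 < 9 by norm_num))
  have hbr := braid hD.1 (hσ.mem 0 (show 0 < 9 by norm_num)) (hσ.mem 1 (show 1 < 9 by norm_num)) (hσ.ncom 0 1)
  obtain ⟨a, ha'⟩ : ∃ a, a = σ 0 := ⟨_, rfl⟩
  obtain ⟨b, hb'⟩ : ∃ b, b = σ 1 := ⟨_, rfl⟩
  rw [← ha'] at ha hbr ⊢
  rw [← hb'] at hb hbr ⊢
  refine ⟨a * b * a, ?_, ?_, ?_, ?_, ?_⟩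
  · calc a * b * a * (a * b * a) = a * b * (a * a) * b * a := by group
      _ = 1 := by rw [ha, mul_one, mul_assoc a b b, hb, mul_one, ha]
  · calc a * b * a * a * (a * b * a) = a * b * (a * a) * a * b * a := by group
      _ = (a * b * a) * b * a := by rw [ha, mul_one]
      _ = b * a * b * b * a := by rw [hbr]
      _ = b * (a * (b * b) * a) := by group
      _ = b := by rw [hb, mul_one, ha, mul_one]
  · calc a * b * a * b * (a * b * a) = a * (b * a * b) * (a * b * a) := by group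
      _ = a * (a * b * a) * (a * b * a) := by rw [hbr]
      _ = a * a * b * (a * a) * b * a := by group
      _ = a := by rw [ha, one_mul, mul_one, hb, one_mul]
  · intro y h0 h1
    calc a * b * a * y * (a * b * a) = a * b * (a * y * a) * b * a := by group
      _ = a * b * y * b * a := by rw [h0.eq, mul_assoc y, ha, mul_one]
      _ = a * (b * y * b) * a := by group
      _ = a * y * a := by rw [h1.eq, mul_assoc y, hb, mul_one]
      _ = y := by rw [h0.eq, mul_assoc, ha, mul_one]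
  · intro r h0
    calc a * b * a * r * (a * b * a) = a * b * (a * r * a) * b * a := by group
      _ = a * b * r * b * a := by rw [h0.eq, mul_assoc r, ha, mul_one]
      _ = a * (b * r * b) * a := by group

/-- The relator of the E7 subdiagram without a and i. -/
theorem Config.relB : ev σ coxB ^ 9 = 1 := by
  obtain ⟨w, hw⟩ : ∃ w, w = ev σ (ninth coxB) := ⟨_, rfl⟩
  have hpow : w = ev σ coxB ^ 9 := hw.trans (ev_flatten_replicate σ coxB 9)
  rw [← hpow]
  have c1 : Commute w (σ 1) := hw ▸ hσ.commute_of_cert hD (hσ.ev_of_cert hD cox_b_b)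
  have c2 : Commute w (σ 2) := hw ▸ hσ.commute_of_cert hD (hσ.ev_of_cert hD cox_b_c)
  have c3 : Commute w (σ 3) := hw ▸ hσ.commute_of_cert hD (hσ.ev_of_cert hD cox_b_d)
  have c4 : Commute w (σ 4) := hw ▸ hσ.commute_of_cert hD (hσ.ev_of_cert hD cox_b_e)
  have c5 : Commute w (σ 5) := hw ▸ hσ.commute_of_cert hD (hσ.ev_of_cert hD cox_b_f)
  have c6 : Commute w (σ 6) := hw ▸ hσ.commute_of_cert hD (hσ.ev_of_cert hD cox_b_g)
  have c7 : Commute w (σ 7) := hw ▸ hσ.commute_of_cert hD (hσ.ev_of_cert hD cox_b_h)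
  obtain ⟨r, hr, hr5, hr8, hclass⟩ := (Config.radical_short (hσ := hσ)) hD hprim ht
  have hbr := (Config.radical_short_not_commute (hσ := hσ)) hD hprim ht hr hr5 hr8
  obtain ⟨x, hxx, hx0, hx1, hxfix, hxr⟩ := (Config.swap (hσ := hσ)) hD hprim ht
  have ha := hσ.mem 0 (show 0 < 9 by norm_num)
  have hb := hσ.mem 1 (show 1 < 9 by norm_num)
  have hc := hσ.mem 2 (show 2 < 9 by norm_num)
  have back : ∀ u v : G, x * u * x = v → u = x * v * x := by
    intro u v h
    calc u = (x * x) * u * (x * x) := by rw [hxx, one_mul, mul_one]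
      _ = x * (x * u * x) * x := by group
      _ = x * v * x := by rw [h]
  have move : ∀ y, Commute w y → Commute (x * w * x) (x * y * x) := by
    intro y h
    show x * w * x * (x * y * x) = x * y * x * (x * w * x)
    calc x * w * x * (x * y * x) = x * w * (x * x) * y * x := by group
      _ = x * (w * y) * x := by rw [hxx]; group
      _ = x * (y * w) * x := by rw [h.eq]
      _ = x * y * (x * x) * w * x := by rw [hxx]; group
      _ = x * y * x * (x * w * x) := by group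
  -- the conjugate of the radical does not commute with `c`
  have hrc : Commute r (σ 2) → ¬ Commute (x * r * x) (σ 2) := by
    intro hcr k
    rw [hxr r hr.2.2] at k
    have hac : σ 0 * σ 2 * σ 0 = σ 2 := by
      rw [(hσ.com 0 2).eq, mul_assoc, sq_eq_one hD.1 ha, mul_one]
    have k1 : Commute (σ 1 * r * σ 1) (σ 2) := by
      refine (conj_commute_iff (σ 0) (σ 1 * r * σ 1) (σ 2)).1 ?_
      rwa [inv_eq hD.1 ha, hac]
    have k2 : Commute r (σ 1 * σ 2 * σ 1) := by
      refine (conj_commute_iff (σ 1) r (σ 1 * σ 2 * σ 1)).1 ?_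
      rw [inv_eq hD.1 hb]
      convert k1 using 1
      calc σ 1 * (σ 1 * σ 2 * σ 1) * σ 1 = (σ 1 * σ 1) * σ 2 * (σ 1 * σ 1) := by group
        _ = σ 2 := by rw [sq_eq_one hD.1 hb, one_mul, mul_one]
    rw [braid hD.1 hb hc (hσ.ncom 1 2)] at k2
    refine hbr (Commute.symm ?_)
    have k3 := (hcr.mul_right k2).mul_right hcr
    rwa [show σ 2 * (σ 2 * σ 1 * σ 2) * σ 2 = (σ 2 * σ 2) * σ 1 * (σ 2 * σ 2) by group, sq_eq_one hD.1 hc, one_mul,
      mul_one] at k3
  have h0 : Commute (x * w * x) (σ 0) := by rw [← hx1]; exact move _ c1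
  have hfix : ∀ y, y ∈ common D (σ 0) (σ 1) → Commute w y → Commute (x * w * x) y := by
    intro y hy h
    have := move _ h
    rwa [hxfix y hy.2.2.1 hy.2.2.2] at this
  rcases hclass _ h0 (hfix _ (hσ.mem_common 6) c6) (hfix _ (hσ.mem_common 5) c5) (hfix _ (hσ.mem_common 4) c4)
      (hfix _ (hσ.mem_common 3) c3) (hfix _ (hσ.mem_common 7) c7) with e | e | e | e
  · rw [back _ _ e, mul_one, hxx]
  · exact absurd ((back _ _ e).trans hx0 ▸ c2) (hσ.ncom 1 2)
  all_goals exfalso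
  all_goals
    have hcr : Commute r (σ 2) := by
      obtain ⟨h6, -, h4, -, -⟩ := hr5
      exact hσ.through r hr h4 h6
  · exact hrc hcr ((back _ _ e).symm ▸ c2)
  · have e' : w = σ 1 * (x * r * x) := by
      rw [back _ _ e, ← hx0]
      calc x * (σ 0 * r) * x = x * σ 0 * (x * x) * r * x := by rw [hxx]; group
        _ = x * σ 0 * x * (x * r * x) := by group
    obtain ⟨R, hR⟩ : ∃ R, R = x * r * x := ⟨_, rfl⟩
    rw [← hR] at e' hrc
    have hRD : R ∈ D := by
      rw [hR]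
      have := hD.2.1 x r hr.1
      rwa [inv_eq_of_mul_eq_one_left hxx] at this
    have hR1 : Commute (σ 1) R := by
      have h := (conj_commute_iff x (σ 0) r).2 hr.2.2
      rwa [inv_eq_of_mul_eq_one_left hxx, hx0, ← hR] at h
    rw [e'] at c2
    have hkey : R * σ 2 * R = σ 1 * σ 2 * σ 1 := by
      calc R * σ 2 * R = (σ 1 * σ 1) * R * σ 2 * R := by rw [sq_eq_one hD.1 hb, one_mul]
        _ = σ 1 * ((σ 1 * R) * σ 2) * R := by group
        _ = σ 1 * (σ 2 * (σ 1 * R)) * R := by rw [c2.eq]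
        _ = σ 1 * σ 2 * σ 1 * (R * R) := by group
        _ = σ 1 * σ 2 * σ 1 := by rw [sq_eq_one hD.1 hRD, mul_one]
    rw [← braid hD.1 hc hRD (fun k => hrc hcr k.symm), braid hD.1 hb hc (hσ.ncom 1 2)] at hkey
    have hR' : R = σ 1 := mul_left_cancel (mul_right_cancel hkey)
    refine hr.2.1 ?_
    rw [back r R hR.symm, hR', hx1]

/-- The spider relator. -/
theorem Config.relS : ev σ spider ^ 10 = 1 := by
  obtain ⟨Y, hY⟩ : ∃ Y, Y = ev σ spiderTen := ⟨_, rfl⟩
  have hpow : Y = ev σ spider ^ 10 := hY.trans (ev_flatten_replicate σ spider 10)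
  rw [← hpow]
  obtain ⟨r, hr, hr5, hr6, hclass⟩ := (Config.radical_long (hσ := hσ)) hD hprim ht
  have ha := hσ.mem 0 (show 0 < 9 by norm_num)
  have hb := hσ.mem 1 (show 1 < 9 by norm_num)
  have haa := sq_eq_one hD.1 ha
  -- the highest root of the E6 subdiagram
  obtain ⟨u, s, hus, hu9, hs9⟩ : ∃ (u : List Nat) (s : Nat), thetaW = u ++ [s] ++ u.reverse ∧
      (∀ x ∈ u, commB 0 x = true) ∧ commB 0 s = true :=
    ⟨thetaW.take 10, 8, by decide, by decide, by decide⟩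
  obtain ⟨θ, hθ⟩ : ∃ θ, θ = ev σ thetaW := ⟨_, rfl⟩
  have hθu : θ = ev σ u * σ s * (ev σ u)⁻¹ := by
    rw [hθ, hus, ev_append, ev_append, ev_reverse σ (hσ.sq hD)]
    simp [ev]
  have hs : s < 9 := by simp [commB] at hs9; omega
  have hθD : θ ∈ D := hθu ▸ hD.2.1 _ _ (hσ.mem s hs)
  have hua : Commute (ev σ u) (σ 0) := by
    refine Commute.list_prod_left _ _ fun y hy => ?_
    obtain ⟨x, hx, rfl⟩ := List.mem_map.1 hy
    exact (hσ.apart 0 x (hu9 x hx)).1.symm
  have hsa := hσ.mem_perp 0 s hs9 hs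
  have hθa : θ ∈ perp D (σ 0) := by
    refine ⟨hθD, fun k => hsa.2.1 ?_, ?_⟩
    · calc σ s = (ev σ u)⁻¹ * θ * ev σ u := by rw [hθu]; group
        _ = σ 0 := by rw [k, mul_assoc, ← hua.eq, inv_mul_cancel_left]
    · rw [hθu]
      exact (hua.symm.mul_right hsa.2.2).mul_right hua.symm.inv_right
  have hθc : ∀ {w ms}, reduces (thetaW ++ [w] ++ thetaW.reverse ++ [w]) ms = true → Commute θ (σ w) := fun h =>
    hθ ▸ hσ.commute_of_cert hD (hσ.ev_of_cert hD h)
  have t3 := hθc theta_d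
  have t4 := hθc theta_e
  have t5 := hθc theta_f
  have t7 := hθc theta_h
  have t8 := hθc theta_i
  have hθ1 : θ ≠ 1 := fun k => by
    have := hD.1.1 θ hθD
    rw [k, orderOf_one] at this
    exact absurd this (by norm_num)
  have hθg : ¬ Commute θ (σ 6) := by
    intro k
    rcases hclass θ hθa.2.2.symm t8 t7 t3 t4 t5 with e | e | e | e
    · exact hθ1 e
    · exact hθa.2.1 e
    · exact hr6 (e ▸ k)
    · refine hr6 ?_
      have hr' : r = σ 0 * θ := by rw [e, ← mul_assoc, haa, one_mul]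
      rw [hr']
      exact (hσ.com 0 6).mul_left k
  have hθb : ¬ Commute (σ 1) θ := by
    intro k
    refine no_chain_four hD hprim ht ha hb (hσ.ncom 0 1) (hσ.mem_common 7) (hσ.mem_common 8) (hσ.ncom 7 8)
      (x := ![θ, σ 6, σ 5, σ 4]) ?_ ?_
    · intro m
      fin_cases m
      exacts [⟨⟨hθD, hθa.2.1, hθa.2.2, k⟩, t7, t8⟩, ⟨hσ.mem_common 6, hσ.com 6 7, hσ.com 6 8⟩,
        ⟨hσ.mem_common 5, hσ.com 5 7, hσ.com 5 8⟩, ⟨hσ.mem_common 4, hσ.com 4 7, hσ.com 4 8⟩]
    · intro m n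
      fin_cases m <;> fin_cases n <;>
        simp [Commute.refl, hθg, commute_iff_of_false hθg, t5, t5.symm, t4, t4.symm, hσ.com 6 4, hσ.com 4 6,
          hσ.ncom 6 5, hσ.ncom 5 6, hσ.ncom 5 4, hσ.ncom 4 5]
  have hT : ev σ transW ^ 3 = 1 := by
    rw [show ev σ transW = σ 1 * θ by rw [transW, ev_cons, hθ]]
    rcases hD.1.2 _ hb _ hθD with e | e
    · refine absurd ?_ hθb
      rw [pow_two] at e
      exact (eq_inv_of_mul_eq_one_left e).trans (by rw [mul_inv_rev, inv_eq hD.1 hb, inv_eq hD.1 hθD])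
    · exact e
  have hT' : ev σ transW.reverse ^ 3 = 1 := by rw [ev_reverse σ (hσ.sq hD), inv_pow, hT, inv_one]
  have hk : ∀ (v B : List Nat) (k : Nat), (B = transW ∨ B = transW.reverse) → k % 3 = 0 → ev σ (block v B k) = 1 := by
    intro v B k hB hk3
    refine ev_conj_power σ (hσ.sq hD) v B k ?_
    obtain ⟨m, rfl⟩ : 3 ∣ k := Nat.dvd_of_mod_eq_zero hk3
    rcases hB with rfl | rfl <;> simp [pow_mul, hT, hT']
  have hcm : ∀ {v B : List Nat} {k w : Nat} {ms}, (B = transW ∨ B = transW.reverse) → k % 3 = 0 →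
      reduces (spiderTen ++ [w] ++ spiderTen.reverse ++ [w] ++ block v B k) ms = true → Commute Y (σ w) := by
    intro v B k w ms hB hk3 h
    have h' := hσ.ev_of_cert hD h
    rw [ev_append, hk v B k hB hk3, mul_one] at h'
    exact hY ▸ hσ.commute_of_cert hD h'
  have y1 := hcm (by first | exact Or.inl rfl | exact Or.inr rfl) (by decide) spider_b
  have y3 := hcm (by first | exact Or.inl rfl | exact Or.inr rfl) (by decide) spider_d
  have y4 : Commute Y (σ 4) := hY ▸ hσ.commute_of_cert hD (hσ.ev_of_cert hD spider_e)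
  have y5 := hcm (by first | exact Or.inl rfl | exact Or.inr rfl) (by decide) spider_f
  have y7 := hcm (by first | exact Or.inl rfl | exact Or.inr rfl) (by decide) spider_h
  have y8 := hcm (by first | exact Or.inl rfl | exact Or.inr rfl) (by decide) spider_i
  have hcube : Y * Y * Y = 1 := by
    have h := hσ.ev_of_cert hD spider_cube
    simp only [ev_append] at h
    simp (discharger := decide) only [hk, mul_one] at h
    rwa [ev_flatten_replicate, ← hY, pow_succ, pow_two] at h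
  obtain ⟨x, hxx, hx0, hx1, hxfix, -⟩ := (Config.swap (hσ := hσ)) hD hprim ht
  have move : ∀ y, Commute Y y → Commute (x * Y * x) (x * y * x) := by
    intro y h
    show x * Y * x * (x * y * x) = x * y * x * (x * Y * x)
    calc x * Y * x * (x * y * x) = x * Y * (x * x) * y * x := by group
      _ = x * (Y * y) * x := by rw [hxx]; group
      _ = x * (y * Y) * x := by rw [h.eq]
      _ = x * y * (x * x) * Y * x := by rw [hxx]; group
      _ = x * y * x * (x * Y * x) := by group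
  have hfix : ∀ y, y ∈ common D (σ 0) (σ 1) → Commute Y y → Commute (x * Y * x) y := by
    intro y hy h
    have := move _ h
    rwa [hxfix y hy.2.2.1 hy.2.2.2] at this
  have h2 : (x * Y * x) * (x * Y * x) = 1 := by
    rcases hclass _ (by rw [← hx1]; exact move _ y1) (hfix _ (hσ.mem_common 8) y8) (hfix _ (hσ.mem_common 7) y7)
      (hfix _ (hσ.mem_common 3) y3) (hfix _ (hσ.mem_common 4) y4) (hfix _ (hσ.mem_common 5) y5) with e | e | e | e <;>
      rw [e]
    · exact mul_one 1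
    · exact haa
    · exact sq_eq_one hD.1 hr.1
    · calc σ 0 * r * (σ 0 * r) = σ 0 * (r * σ 0) * r := by group
        _ = σ 0 * (σ 0 * r) * r := by rw [hr.2.2.symm.eq]
        _ = 1 := by rw [← mul_assoc, haa, one_mul, sq_eq_one hD.1 hr.1]
  have h2' : Y * Y = 1 := by
    calc Y * Y = (x * x) * Y * (x * x) * Y * (x * x) := by rw [hxx]; group
      _ = x * ((x * Y * x) * (x * Y * x)) * x := by group
      _ = 1 := by rw [h2, mul_one, hxx]
  rwa [h2', one_mul] at hcube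

end CfsgLib.Pre22
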