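import Cfsg.Agent.Lib.Fischer.M22Unique.Iso
import Cfsg.Agent.Lib.Fischer.Recognition.Pre.Relators

/-!
Every group of type M(22) is the presented group Fi22.
-/

set_option autoImplicit false
set_option linter.unusedSectionVars false
set_option linter.style.haveILetI false

namespace CfsgLib.Pre22

open CfsgLib.Fischer CfsgLib.Fischer.TypeTwentyTwo CfsgLib.Fischer.M22Unique

open CfsgLib.Fischer CfsgLib.InvChar.FischerProducts CfsgLib.InvChar.FischerHexad
open Cfsg.Spor.Fi22 (Gen)

variable {G : Type*} [Group G] [Finite G] {D : Set G}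
variable (hD : Cfsg.IsThreeTranspositionGroup D) (hprim : Cfsg.IsPrimitiveUnderConj D)
  (ht : PreM22 G D)

include hD hprim ht

/-- A group of type M(22) is isomorphic to the presented group Fi22, its class corresponding to that of `a`. -/
theorem exists_equiv :
    ∃ e : G ≃* Cfsg.Spor.Fi22, e '' D = conjugatesOf (PresentedGroup.of Gen.a : Cfsg.Spor.Fi22) := by
  obtain ⟨σ, hσ⟩ := exists_config hD hprim ht
  let F : Gen → G := fun x => σ (num x)
  have hrel : ∀ r ∈ Cfsg.Spor.coxRelators Cfsg.Spor.Fi22.edges ∪ {r | r ∈ Cfsg.Spor.Fi22.extra},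
      FreeGroup.lift F r = 1 := by
    rintro r (⟨x, -, y, -, rfl⟩ | hr)
    · rw [map_pow, map_mul, FreeGroup.lift_apply_of, FreeGroup.lift_apply_of]
      rcases label_spec x y with ⟨rfl, hl⟩ | ⟨hadj, hl⟩ | ⟨hcm, hl⟩ <;> rw [hl]
      · rw [pow_one]; exact hσ.sq hD _
      · rcases hD.1.2 _ (hσ.mem _ (num_lt x)) _ (hσ.mem _ (num_lt y)) with e | e
        · refine absurd ?_ (hσ.joined _ _ hadj)
          rw [pow_two] at e
          exact (eq_inv_of_mul_eq_one_left e).trans
            (by rw [mul_inv_rev, inv_eq hD.1 (hσ.mem _ (num_lt x)), inv_eq hD.1 (hσ.mem _ (num_lt y))])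
        · exact e
      · show (σ (num x) * σ (num y)) ^ 2 = 1
        rw [(hσ.apart _ _ hcm).1.mul_pow, pow_two, pow_two, hσ.sq hD, hσ.sq hD, one_mul]
    · simp only [Cfsg.Spor.Fi22.extra, List.mem_cons, List.not_mem_nil, or_false, Set.mem_setOf_eq] at hr
      rcases hr with rfl | rfl | rfl
      · simpa [F, num, spider, ev, mul_assoc, FreeGroup.lift_apply_of] using (Config.relS (hσ := hσ)) hD hprim ht
      · simpa [F, num, coxA, ev, mul_assoc, FreeGroup.lift_apply_of] using (Config.relA (hσ := hσ)) hD hprim ht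
      · simpa [F, num, coxB, ev, mul_assoc, FreeGroup.lift_apply_of] using (Config.relB (hσ := hσ)) hD hprim ht
  let φ : Cfsg.Spor.Fi22 →* G := PresentedGroup.toGroup hrel
  have hφa : φ (PresentedGroup.of Gen.a) = σ 0 := PresentedGroup.toGroup.of hrel
  have hGG : Cfsg.IsFi22 Cfsg.Spor.Fi22 := Cfsg.Agent.S1696.result
  obtain ⟨hsimple, hcard⟩ := hGG
  have hinj : Function.Injective φ := by
    rw [← MonoidHom.ker_eq_bot_iff]
    rcases hsimple.eq_bot_or_eq_top_of_normal φ.ker inferInstance with h | h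
    · exact h
    · exfalso
      have h0 : σ 0 = 1 := hφa ▸ MonoidHom.mem_ker.1 (h ▸ Subgroup.mem_top (PresentedGroup.of Gen.a))
      have := hD.1.1 _ (hσ.mem 0 (by norm_num))
      rw [h0, orderOf_one] at this
      norm_num at this
  have hbij : Function.Bijective φ := (Nat.bijective_iff_injective_and_card _).2
    ⟨hinj, by rw [hcard, natCard_group hD hprim ht]; norm_num⟩
  refine ⟨(MulEquiv.ofBijective φ hbij).symm, Set.ext fun y => ?_⟩
  obtain ⟨e, he⟩ : ∃ e, e = MulEquiv.ofBijective φ hbij := ⟨_, rfl⟩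
  rw [← he]
  have hea : e (PresentedGroup.of Gen.a) = σ 0 := he ▸ hφa
  constructor
  · rintro ⟨x, hx, rfl⟩
    obtain ⟨k, hk⟩ := hprim.1 (σ 0) (hσ.mem 0 (by norm_num)) x hx
    refine isConj_iff.2 ⟨e.symm k, ?_⟩
    apply e.injective
    rw [map_mul, map_mul, map_inv, e.apply_symm_apply, e.apply_symm_apply, hea, hk]
  · intro hy
    obtain ⟨k, rfl⟩ := isConj_iff.1 hy
    refine ⟨e (k * PresentedGroup.of Gen.a * k⁻¹), ?_, e.symm_apply_apply _⟩
    rw [map_mul, map_mul, map_inv, hea]
    exact hD.2.1 _ _ (hσ.mem 0 (by norm_num))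

end CfsgLib.Pre22
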