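import Cfsg.Agent.Lib.Fischer.M22Unique.Trace
import Cfsg.Agent.Lib.Fischer.Recognition.Pre.Local

/-!
The members commuting with two non-commuting pairs of a class of type M(22): they contain no chain of
four, and for a suitable second pair they contain a chain of three.
-/

set_option autoImplicit false
set_option linter.unusedSectionVars false
set_option linter.style.haveILetI false

namespace CfsgLib.Pre22

open CfsgLib.Fischer CfsgLib.Fischer.TypeTwentyTwo CfsgLib.Fischer.M22Unique

open CfsgLib.Fischer CfsgLib.InvChar.FischerProducts CfsgLib.InvChar.FischerHexad CfsgLib.Fischer.PairThree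
open CfsgLib.Fischer.FortyFive

variable {G : Type*} [Group G] [Finite G] {D : Set G} {a b f g : G}
variable (hD : Cfsg.IsThreeTranspositionGroup D) (hprim : Cfsg.IsPrimitiveUnderConj D)
  (ht : PreM22 G D) (ha : a ∈ D) (hb : b ∈ D) (hab : ¬ Commute a b) (hf : f ∈ common D a b)

include hD hprim ht ha hb hab hf

/-- The members of the common neighbourhood not commuting with one of them. -/
theorem ncard_noncommuting : {y : G | y ∈ common D a b ∧ ¬ Commute f y}.ncard = 80 := by
  obtain ⟨p, hinj, hr, -, -, -⟩ := exists_points_at hD hprim ht ha hb hab hf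
  have hP : (common D a b ∩ perp D f).ncard = 45 := by
    rw [← hr, ← Nat.card_coe_set_eq, Nat.card_range_of_injective hinj, Nat.card_fin]
  have hnot : f ∉ common D a b ∩ perp D f := fun k => k.2.2.1 rfl
  have hsplit : common D a b =
      insert f (common D a b ∩ perp D f) ∪ {y : G | y ∈ common D a b ∧ ¬ Commute f y} := by
    ext y
    constructor
    · intro hy
      by_cases hc : Commute f y
      · by_cases hyf : y = f
        · exact Or.inl (Or.inl hyf)
        · exact Or.inl (Or.inr ⟨hy, hy.1, hyf, hc⟩)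
      · exact Or.inr ⟨hy, hc⟩
    · rintro ((rfl | h) | h)
      exacts [hf, h.1, h.1]
  have hdisj : Disjoint (insert f (common D a b ∩ perp D f)) {y : G | y ∈ common D a b ∧ ¬ Commute f y} := by
    rw [Set.disjoint_left]
    rintro y (rfl | h) hy
    · exact hy.2 (Commute.refl _)
    · exact hy.2 h.2.2.2
  have h126 := mu22 hD hprim ht ha hb hab
  rw [hsplit, Set.ncard_union_eq hdisj, Set.ncard_insert_of_notMem hnot, hP] at h126
  omega

/-- No chain of four commutes with two non-commuting pairs. -/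
theorem no_chain_four (hg : g ∈ common D a b) (hfg : ¬ Commute f g) {x : Fin 4 → G}
    (hx : ∀ i, x i ∈ common D a b ∧ Commute (x i) f ∧ Commute (x i) g)
    (hc : ∀ i j : Fin 4, Commute (x i) (x j) ↔ ¬ ((i : ℕ) + 1 = j ∨ (j : ℕ) + 1 = i)) : False := by
  haveI : Fact (Nat.Prime 5) := ⟨by norm_num⟩
  have hinv : ∀ i, x i * x i = 1 := fun i => sq_eq_one hD.1 (hx i).1.1
  have hbr : ∀ i j : Fin 4, ((i : ℕ) + 1 = j ∨ (j : ℕ) + 1 = i) → x i * x j * x i = x j * x i * x j :=
    fun i j h => braid hD.1 (hx i).1.1 (hx j).1.1 fun k => (hc i j).1 k h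
  obtain ⟨φ, p0, p1, p2, p3⟩ := SymFive.exists_hom (hinv 0) (hinv 1) (hinv 2) (hinv 3) (hbr 0 1 (by decide))
    (hbr 1 2 (by decide)) (hbr 2 3 (by decide)) ((hc 0 2).2 (by decide)).eq ((hc 0 3).2 (by decide)).eq
    ((hc 1 3).2 (by decide)).eq
  obtain ⟨u, hu⟩ : ∃ u, u = x 0 * x 1 * x 2 * x 3 := ⟨_, rfl⟩
  have hu5 : u ^ 5 = 1 := by
    have hσ : (Equiv.swap (0 : Fin 5) 1 * Equiv.swap 1 2 * Equiv.swap 2 3 * Equiv.swap 3 4) ^ 5 = 1 := by decide
    rw [hu, ← p0, ← p1, ← p2, ← p3, ← map_mul, ← map_mul, ← map_mul, ← map_pow]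
    exact (congrArg φ hσ).trans (map_one φ)
  have hu1 : u ≠ 1 := by
    intro e
    rw [hu] at e
    have c03 : Commute (x 0) (x 3) := (hc 0 3).2 (by decide)
    have c13 : Commute (x 1) (x 3) := (hc 1 3).2 (by decide)
    refine (hc 2 3).1 ?_ (by decide)
    have e' : x 2 = (x 0 * x 1)⁻¹ * (x 3)⁻¹ := by
      rw [← mul_left_inj (x 3), inv_mul_cancel_right, ← mul_right_inj (x 0 * x 1), mul_inv_cancel, ← mul_assoc, e]
    rw [e']
    exact ((c03.mul_left c13).inv_left.mul_left ((Commute.refl (x 3)).inv_left))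
  let C : Subgroup G := Subgroup.centralizer ({a, b, f} : Set G)
  let S : Subgroup C := (Subgroup.centralizer ({g} : Set G)).subgroupOf C
  have hC : ∀ {k : G}, k ∈ C → Commute k a ∧ Commute k b ∧ Commute k f := fun h =>
    ⟨(Subgroup.mem_centralizer_iff.1 h a (by simp)).symm, (Subgroup.mem_centralizer_iff.1 h b (by simp)).symm,
      (Subgroup.mem_centralizer_iff.1 h f (by simp)).symm⟩
  have hmemC : ∀ {k : G}, Commute k a → Commute k b → Commute k f → k ∈ C := fun h1 h2 h3 =>
    Subgroup.mem_centralizer_iff.2 (by rintro y (rfl | rfl | rfl); exacts [h1.eq.symm, h2.eq.symm, h3.eq.symm])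
  let N := {y : G | y ∈ common D a b ∧ ¬ Commute f y}
  have hN : ∀ k : C, (k : G) * g * (k : G)⁻¹ ∈ N := fun k => by
    obtain ⟨h1, h2, h3⟩ := hC k.2
    refine ⟨conj_mem_common hD h1 h2 hg, fun c => hfg ((conj_commute_iff (k : G) f g).1 ?_)⟩
    rwa [h3.eq, mul_inv_cancel_right]
  let q : C ⧸ S → N := Quotient.lift (fun k => ⟨(k : G) * g * (k : G)⁻¹, hN k⟩) (fun k l h => Subtype.ext (by
    have h' := Subgroup.mem_centralizer_singleton_iff.1
      (Subgroup.mem_subgroupOf.1 (QuotientGroup.leftRel_apply.1 h))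
    calc (k : G) * g * (k : G)⁻¹ = k * (g * ((k : G)⁻¹ * l)) * (l : G)⁻¹ := by group
      _ = k * (((k : G)⁻¹ * l) * g) * (l : G)⁻¹ := by
        rw [show ((k⁻¹ * l : C) : G) = (k : G)⁻¹ * l from rfl] at h'
        rw [h']
      _ = l * g * (l : G)⁻¹ := by group))
  have hq : Function.Bijective q := by
    constructor
    · intro X Y
      obtain ⟨k, rfl⟩ := QuotientGroup.mk_surjective X
      obtain ⟨l, rfl⟩ := QuotientGroup.mk_surjective Y
      intro h
      have h' : (k : G) * g * (k : G)⁻¹ = l * g * (l : G)⁻¹ := congrArg Subtype.val h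
      refine QuotientGroup.eq.2 (Subgroup.mem_subgroupOf.2 (Subgroup.mem_centralizer_singleton_iff.2 ?_))
      show (k : G)⁻¹ * l * g = g * ((k : G)⁻¹ * l)
      calc (k : G)⁻¹ * l * g = (k : G)⁻¹ * (l * g * (l : G)⁻¹) * l := by group
        _ = (k : G)⁻¹ * (k * g * (k : G)⁻¹) * l := by rw [h']
        _ = g * ((k : G)⁻¹ * l) := by group
    · rintro ⟨y, hy, hfy⟩
      obtain ⟨k, hk, hkf, hky⟩ := exists_conj_pair hD hprim ht ha hb hab hf hg hfg hf hy hfy
      obtain ⟨h1, h2⟩ := mem_centralizer_pair (closure_common_le hk)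
      exact ⟨QuotientGroup.mk (⟨k, hmemC h1 h2 (mul_inv_eq_iff_eq_mul.1 hkf)⟩ : C), Subtype.ext hky⟩
  have hcard : Nat.card C = 80 * Nat.card S := by
    rw [Subgroup.card_eq_card_quotient_mul_card_subgroup S, Nat.card_congr (Equiv.ofBijective q hq)]
    congr 1
    rw [Nat.card_coe_set_eq]
    exact ncard_noncommuting hD hprim ht ha hb hab hf
  have huC : u ∈ C := by
    refine hu ▸ mul_mem (mul_mem (mul_mem ?_ ?_) ?_) ?_ <;>
      exact hmemC (hx _).1.2.2.1.symm (hx _).1.2.2.2.symm (hx _).2.1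
  have huS : (⟨u, huC⟩ : C) ∈ S :=
    Subgroup.mem_subgroupOf.2 (Subgroup.mem_centralizer_singleton_iff.2
      (hu ▸ ((((hx 0).2.2.mul_left (hx 1).2.2).mul_left (hx 2).2.2).mul_left (hx 3).2.2)).eq)
  have h5 : orderOf (⟨⟨u, huC⟩, huS⟩ : S) = 5 :=
    orderOf_eq_prime (Subtype.ext (Subtype.ext hu5)) fun k =>
      hu1 (congrArg (fun s : S => ((s : C) : G)) k)
  have h5S : 5 ∣ Nat.card S := h5 ▸ orderOf_dvd_natCard _
  have hCa : C ≤ Subgroup.centralizer ({a} : Set G) := fun k hk =>
    Subgroup.mem_centralizer_singleton_iff.2 (hC hk).1.eq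
  have hdvd := Subgroup.card_dvd_of_le hCa
  rw [natCard_centralizer hD hprim ht ha, hcard] at hdvd
  have := dvd_trans (mul_dvd_mul_left 80 h5S) hdvd
  norm_num at this

omit hf in
/-- A chain of three commuting with a second pair. -/
theorem exists_string_trace : ∃ f g i h d : G, f ∈ common D a b ∧ g ∈ common D a b ∧ i ∈ common D a b ∧
    h ∈ common D a b ∧ d ∈ common D a b ∧ ¬ Commute f g ∧ ¬ Commute i h ∧ ¬ Commute h d ∧ Commute i d ∧ i ≠ d ∧
    Commute i f ∧ Commute i g ∧ Commute h f ∧ Commute h g ∧ Commute d f ∧ Commute d g := by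
  classical
  have : Fintype G := Fintype.ofFinite G
  obtain ⟨f, hf⟩ := nonempty hD hprim ht ha hb hab
  let N : Finset G := (common D a b).toFinset.filter fun y => ¬ Commute f y
  let P : Finset G := (common D a b ∩ perp D f).toFinset
  obtain ⟨p, hinj, hr, hcomm, -, -⟩ := exists_points_at hD hprim ht ha hb hab hf
  have hPc : P.card = 45 := by
    rw [← Set.ncard_eq_toFinset_card', ← hr, ← Nat.card_coe_set_eq, Nat.card_range_of_injective hinj, Nat.card_fin]
  have hNc : N.card = 80 := by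
    rw [← ncard_noncommuting hD hprim ht ha hb hab hf, ← Set.ncard_coe_finset]
    congr 1
    ext y; simp [N]
  have hdeg : ∀ x ∈ P, (N.filter fun y => Commute x y).card = 32 := by
    intro x hx
    rw [Set.mem_toFinset] at hx
    obtain ⟨q, hqinj, hqr, -, -, -⟩ := exists_points_at hD hprim ht ha hb hab hx.1
    obtain ⟨i, rfl⟩ : x ∈ Set.range p := hr ▸ hx
    have hall : (common D a b ∩ perp D (p i)).toFinset =
        insert f ((ringList i).toFinset.image p) ∪ N.filter fun y => Commute (p i) y := by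
      ext y
      simp only [Set.mem_toFinset, Finset.mem_union, Finset.mem_insert, Finset.mem_image, List.mem_toFinset,
        Finset.mem_filter, N, ringList, List.mem_filter, List.mem_finRange, true_and, Bool.and_eq_true, bne_iff_ne,
        beq_iff_eq, ne_eq]
      constructor
      · rintro ⟨hy, -, hne, hyc⟩
        by_cases hfy : Commute f y
        · left
          by_cases hyf : y = f
          · exact Or.inl hyf
          · obtain ⟨k, rfl⟩ : y ∈ Set.range p := by rw [hr]; exact ⟨hy, hy.1, hyf, hfy⟩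
            exact Or.inr ⟨k, ⟨fun e => hne (by rw [e]), (hcomm i k).1 hyc⟩, rfl⟩
        · exact Or.inr ⟨⟨hy, hfy⟩, hyc⟩
      · rintro ((rfl | ⟨k, ⟨hki, hk⟩, rfl⟩) | ⟨⟨hy, hfy⟩, hyc⟩)
        · exact ⟨hf, hf.1, fun e => hx.2.2.1 e.symm, hx.2.2.2.symm⟩
        · have hk' : p k ∈ common D a b ∩ perp D f := hr ▸ Set.mem_range_self k
          exact ⟨hk'.1, hk'.1.1, fun e => hki (hinj e), (hcomm i k).2 hk⟩
        · exact ⟨hy, hy.1, fun e => hfy (by rw [e]; exact hx.2.2.2), hyc⟩
    have hcard := congrArg Finset.card hall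
    rw [← Set.ncard_eq_toFinset_card', ← hqr, ← Nat.card_coe_set_eq, Nat.card_range_of_injective hqinj, Nat.card_fin,
      Finset.card_union_of_disjoint, Finset.card_insert_of_notMem, Finset.card_image_of_injective _ hinj,
      List.toFinset_card_of_nodup (show (ringList i).Nodup from (List.nodup_finRange 45).filter _),
      ringList_length] at hcard
    · omega
    · simp only [Finset.mem_image, not_exists, not_and]
      intro k _ e
      exact (hr ▸ Set.mem_range_self k : p k ∈ common D a b ∩ perp D f).2.2.1 e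
    · rw [Finset.disjoint_left]
      intro y hy hy'
      simp only [Finset.mem_filter, N, Set.mem_toFinset] at hy'
      simp only [Finset.mem_insert, Finset.mem_image] at hy
      rcases hy with rfl | ⟨k, -, rfl⟩
      · exact hy'.1.2 (Commute.refl _)
      · exact hy'.1.2 (hr ▸ Set.mem_range_self k : p k ∈ common D a b ∩ perp D f).2.2.2
  obtain ⟨g, hgN, hbig⟩ : ∃ g ∈ N, 6 < (P.filter fun x => Commute x g).card := by
    by_contra hsmall
    push Not at hsmall
    have h1 : ∑ g ∈ N, (P.filter fun x => Commute x g).card = ∑ x ∈ P, (N.filter fun y => Commute x y).card := by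
      simp only [Finset.card_filter]
      exact Finset.sum_comm
    have h2 := Finset.sum_le_card_nsmul N _ 6 hsmall
    rw [h1, Finset.sum_congr rfl hdeg, Finset.sum_const, hPc, hNc] at h2
    simp at h2
  simp only [N, Finset.mem_filter, Set.mem_toFinset] at hgN
  obtain ⟨hg, hfg⟩ := hgN
  let T := P.filter fun x => Commute x g
  have hT' : ∀ x, x ∈ T ↔ x ∈ common D a b ∧ x ≠ f ∧ Commute x f ∧ Commute x g := fun x => by
    simp only [T, P, Finset.mem_filter, Set.mem_toFinset]
    exact ⟨fun h => ⟨h.1.1, h.1.2.2.1, h.1.2.2.2.symm, h.2⟩, fun h => ⟨⟨h.1, h.1.1, h.2.1, h.2.2.1.symm⟩, h.2.2.2⟩⟩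
  by_contra hno
  push Not at hno
  have hns : ∀ x ∈ T, ∀ y ∈ T, ∀ z ∈ T, ¬ Commute x y → ¬ Commute y z → Commute x z → x = z := by
    intro x hx y hy z hz h1 h2 h3
    rw [hT'] at hx hy hz
    by_contra hne
    exact hno f g x y z hf hg hx.1 hy.1 hz.1 hfg h1 h2 h3 hne hx.2.2.1 hx.2.2.2 hy.2.2.1 hy.2.2.2 hz.2.2.1 hz.2.2.2
  have hthree : ∀ y ∈ T, (T.filter fun x => x ≠ y ∧ Commute x y).card = 3 := by
    intro y hy
    rw [hT'] at hy
    obtain ⟨q, hqinj, hqr, hqc, -, -⟩ := exists_points_at hD hprim ht ha hb hab hy.1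
    obtain ⟨i, hi⟩ : f ∈ Set.range q := hqr ▸ ⟨hf, hf.1, Ne.symm hy.2.1, hy.2.2.1⟩
    obtain ⟨j, hj⟩ : g ∈ Set.range q := hqr ▸
      ⟨hg, hg.1, fun e => hfg (e ▸ hy.2.2.1.symm), hy.2.2.2⟩
    have hij : hT (pt i) (pt j) ≠ 0 := fun e => hfg (by rw [← hi, ← hj]; exact (hqc i j).2 e)
    have hset : (T.filter fun x => x ≠ y ∧ Commute x y) = (pairList i j).toFinset.image q := by
      ext x
      simp only [Finset.mem_filter, hT', Finset.mem_image, List.mem_toFinset, pairList, List.mem_filter,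
        List.mem_finRange, true_and, Bool.and_eq_true, beq_iff_eq]
      constructor
      · rintro ⟨⟨hx, -, hxf, hxg⟩, hxy, hxyc⟩
        obtain ⟨k, rfl⟩ : x ∈ Set.range q := hqr ▸ ⟨hx, hx.1, hxy, hxyc.symm⟩
        exact ⟨k, ⟨(hqc i k).1 (hi ▸ hxf.symm), (hqc j k).1 (hj ▸ hxg.symm)⟩, rfl⟩
      · rintro ⟨k, ⟨h1, h2⟩, rfl⟩
        have hk : q k ∈ common D a b ∩ perp D y := hqr ▸ Set.mem_range_self k
        have hkf : Commute (q k) f := hi ▸ ((hqc i k).2 h1).symm
        have hkg : Commute (q k) g := hj ▸ ((hqc j k).2 h2).symm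
        exact ⟨⟨hk.1, fun e => hfg (e ▸ hkg), hkf, hkg⟩, hk.2.2.1, hk.2.2.2.symm⟩
    rw [hset, Finset.card_image_of_injective _ hqinj,
      List.toFinset_card_of_nodup (show (pairList i j).Nodup from (List.nodup_finRange 45).filter _),
      (pairList_spec i j hij).1]
  obtain ⟨y, hy⟩ : T.Nonempty := Finset.card_pos.1 ((by norm_num : 0 < 6).trans hbig)
  obtain ⟨t, ht'⟩ : (T.filter fun x => x ≠ y ∧ Commute x y).Nonempty :=
    Finset.card_pos.1 (by rw [hthree y hy]; norm_num)
  rw [Finset.mem_filter] at ht'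
  obtain ⟨htT, hty, htc⟩ := ht'
  have hsub : T ⊆ (T.filter fun x => x ≠ y ∧ Commute x y) ∪ (T.filter fun x => x ≠ t ∧ Commute x t) := by
    intro x hx
    simp only [Finset.mem_union, Finset.mem_filter]
    by_cases hxy : x = y
    · exact Or.inr ⟨hx, fun e => hty (e.symm.trans hxy), hxy ▸ htc.symm⟩
    by_cases hc : Commute x y
    · exact Or.inl ⟨hx, hxy, hc⟩
    refine Or.inr ⟨hx, fun e => hc (e ▸ htc), ?_⟩
    by_contra hxt
    exact hty (hns t htT x hx y hy (fun k => hxt k.symm) hc htc)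
  have hle := (Finset.card_le_card hsub).trans (Finset.card_union_le _ _)
  rw [hthree y hy, hthree t htT] at hle
  change 6 < T.card at hbig
  omega

end CfsgLib.Pre22
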